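import Groth.Agent.FlatMor12.Cube.Triple
import Groth.Agent.AbVarLib.MulIsogeny
import Groth.Agent.AbVarLib.GeomIntegralSmooth
import Groth.Agent.PicLib.PicGroup
import Groth.Agent.PicLib.FlatTriv
import Mathlib.CategoryTheory.Monoidal.Cartesian.Grp

/-!
# The cubical relation on a group scheme over an arbitrary base

For a proper flat finitely presented group scheme with geometrically reduced and connected fibres.
-/

set_option autoImplicit false
set_option linter.style.haveILetI false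
set_option backward.isDefEq.respectTransparency.types false
set_option maxHeartbeats 1000000

universe u

open CategoryTheory CategoryTheory.Limits MonoidalCategory CartesianMonoidalCategory AlgebraicGeometry MonObj
  TopologicalSpace
open Groth.Agent.PicLib

noncomputable section

namespace Groth.Agent.CubeS27

variable {S : Scheme.{u}}

/-- The classes as a group. -/
instance commGroupPicM {X : Scheme.{u}} : CommGroup (PicM X) :=
  { commGroupOfIsUnit (M := PicM X) PicM.isUnit with }

/-- Pullback of a class along a morphism over `S`. -/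
abbrev pb {V W : Over S} (f : V ⟶ W) (a : PicM W.left) : PicM V.left := PicM.pull f.left a

theorem pb_pb {U V W : Over S} (f : U ⟶ V) (g : V ⟶ W) (a : PicM W.left) : pb f (pb g a) = pb (f ≫ g) a := by
  rw [pb, pb, pb, PicM.pull_pull, Over.comp_left]

variable {A : Over S} [GrpObj A]

theorem one_left (V : Over S) : (1 : V ⟶ A).left = V.hom ≫ η[A].left := by
  rw [Hom.one_def, Over.comp_left, Over.toUnit_left]

/-- The defect of the cubical relation. -/
def defect (a : PicM A.left) {V : Over S} (f g h : V ⟶ A) : PicM V.left :=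
  pb (f * g * h) a * pb f a * pb g a * pb h a / (pb (f * g) a * pb (f * h) a * pb (g * h) a * pb (1 : V ⟶ A) a)

theorem pb_defect (a : PicM A.left) {U V : Over S} (t : U ⟶ V) (f g h : V ⟶ A) :
    pb t (defect a f g h) = defect a (t ≫ f) (t ≫ g) (t ≫ h) := by
  simp only [defect, map_div, map_mul, pb_pb, comp_mul, MonObj.comp_one]

theorem defect_one_left (a : PicM A.left) {V : Over S} (g h : V ⟶ A) : defect a 1 g h = 1 := by
  simp only [defect, _root_.one_mul]
  rw [div_eq_one]
  simp only [_root_.mul_comm, _root_.mul_left_comm]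

theorem defect_one_mid (a : PicM A.left) {V : Over S} (f h : V ⟶ A) : defect a f 1 h = 1 := by
  simp only [defect, _root_.one_mul, _root_.mul_one]
  rw [div_eq_one]
  simp only [_root_.mul_comm, _root_.mul_left_comm]

theorem defect_one_right (a : PicM A.left) {V : Over S} (f g : V ⟶ A) : defect a f g 1 = 1 := by
  simp only [defect, _root_.one_mul, _root_.mul_one]
  rw [div_eq_one]

variable [IsProper A.hom] [Flat A.hom] [LocallyOfFinitePresentation A.hom] [GeometricallyReduced A.hom]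
  [GeometricallyConnected A.hom]

theorem geometricallyIntegral : GeometricallyIntegral A.hom := by
  haveI : Smooth A.hom := AbVarLib.smooth_of_geometricallyReduced A
  exact AbVarLib.geometricallyIntegral_of_smooth A.hom

theorem geometricallyIntegral_sq : GeometricallyIntegral (pullback.fst A.hom A.hom ≫ A.hom) := by
  haveI : Smooth A.hom := AbVarLib.smooth_of_geometricallyReduced A
  haveI : GeometricallyConnected (pullback.fst A.hom A.hom ≫ A.hom) :=
    GeometricallyConnected.comp (pullback.fst A.hom A.hom) A.hom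
  exact AbVarLib.geometricallyIntegral_of_smooth _

/-- The defect vanishes. -/
theorem defect_eq_one (a : PicM A.left) {V : Over S} (f₀ g₀ h₀ : V ⟶ A) : defect a f₀ g₀ h₀ = 1 := by
  haveI : GeometricallyIntegral A.hom := geometricallyIntegral
  haveI : GeometricallyIntegral (pullback.fst A.hom A.hom ≫ A.hom) := geometricallyIntegral_sq
  let e : S ⟶ A.left := η[A].left
  have he : e ≫ A.hom = 𝟙 S := Over.w η[A]
  let f2 := pullback.fst A.hom A.hom ≫ A.hom
  let π := pullback.snd f2 A.hom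
  let W : Over S := Over.mk (π ≫ A.hom)
  let p : W ⟶ A := Over.homMk (pullback.fst f2 A.hom ≫ pullback.fst A.hom A.hom) (by
    show _ ≫ A.hom = π ≫ A.hom
    rw [Category.assoc]
    exact pullback.condition)
  let q : W ⟶ A := Over.homMk (pullback.fst f2 A.hom ≫ pullback.snd A.hom A.hom) (by
    show _ ≫ A.hom = π ≫ A.hom
    rw [Category.assoc, ← pullback.condition (f := A.hom)]
    exact pullback.condition)
  let r : W ⟶ A := Over.homMk π rfl
  -- restriction along maps over `S`
  have hres : ∀ {T : Scheme.{u}} (t : T ⟶ W.left),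
      (t ≫ p.left = (t ≫ W.hom) ≫ e ∨ t ≫ q.left = (t ≫ W.hom) ≫ e ∨ t ≫ r.left = (t ≫ W.hom) ≫ e) →
      PicM.pull t (defect a p q r) = 1 := by
    intro T t ht
    let t' : Over.mk (t ≫ W.hom) ⟶ W := Over.homMk t rfl
    have h1 : ∀ s : W ⟶ A, t ≫ s.left = (t ≫ W.hom) ≫ e → t' ≫ s = 1 := fun s hs => by
      refine Over.OverMorphism.ext ?_
      rw [Over.comp_left, one_left]
      exact hs
    show pb t' (defect a p q r) = 1
    rw [pb_defect]
    rcases ht with h | h | h
    · rw [h1 p h, defect_one_left]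
    · rw [h1 q h, defect_one_mid]
    · rw [h1 r h, defect_one_right]
  let ax : A.left ⟶ pullback A.hom A.hom := pullback.lift (A.hom ≫ e) (𝟙 _) (by
    rw [Category.assoc, he, Category.comp_id, Category.id_comp])
  let ay : A.left ⟶ pullback A.hom A.hom := pullback.lift (𝟙 _) (A.hom ≫ e) (by
    rw [Category.assoc, he, Category.comp_id, Category.id_comp])
  have hax1 : ax ≫ pullback.fst A.hom A.hom = A.hom ≫ e := pullback.lift_fst _ _ _
  have hay1 : ay ≫ pullback.fst A.hom A.hom = 𝟙 _ := pullback.lift_fst _ _ _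
  have hay2 : ay ≫ pullback.snd A.hom A.hom = A.hom ≫ e := pullback.lift_snd _ _ _
  let m₁ : pullback (ax ≫ f2) A.hom ⟶ W.left := pullback.lift (pullback.fst _ _ ≫ ax) (pullback.snd _ _) (by
    rw [Category.assoc]; exact pullback.condition)
  let m₂ : pullback (ay ≫ f2) A.hom ⟶ W.left := pullback.lift (pullback.fst _ _ ≫ ay) (pullback.snd _ _) (by
    rw [Category.assoc]; exact pullback.condition)
  have hm₁f : m₁ ≫ pullback.fst f2 A.hom = pullback.fst (ax ≫ f2) A.hom ≫ ax := pullback.lift_fst _ _ _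
  have hm₁s : m₁ ≫ pullback.snd f2 A.hom = pullback.snd (ax ≫ f2) A.hom := pullback.lift_snd _ _ _
  have hm₂f : m₂ ≫ pullback.fst f2 A.hom = pullback.fst (ay ≫ f2) A.hom ≫ ay := pullback.lift_fst _ _ _
  have hm₂s : m₂ ≫ pullback.snd f2 A.hom = pullback.snd (ay ≫ f2) A.hom := pullback.lift_snd _ _ _
  have h₁ : PicM.pull m₁ (defect a p q r) = 1 := hres m₁ (Or.inl (by
    show m₁ ≫ pullback.fst f2 A.hom ≫ pullback.fst A.hom A.hom = (m₁ ≫ π ≫ A.hom) ≫ e
    rw [reassoc_of% hm₁f, hax1, reassoc_of% hm₁s, ← pullback.condition (f := ax ≫ f2)]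
    simp only [f2, Category.assoc, reassoc_of% hax1, reassoc_of% he]))
  have h₂ : PicM.pull m₂ (defect a p q r) = 1 := hres m₂ (Or.inr (Or.inl (by
    show m₂ ≫ pullback.fst f2 A.hom ≫ pullback.snd A.hom A.hom = (m₂ ≫ π ≫ A.hom) ≫ e
    rw [reassoc_of% hm₂f, hay2, reassoc_of% hm₂s, ← pullback.condition (f := ay ≫ f2)]
    simp only [f2, Category.assoc, reassoc_of% hay1])))
  haveI : IsClosedImmersion e := by
    haveI : IsClosedImmersion (e ≫ A.hom) := by rw [he]; infer_instance
    exact IsClosedImmersion.of_comp e A.hom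
  have hloc : ∀ z : A.left, ∃ U : A.left.Opens, z ∈ U ∧ PicM.pull (π ⁻¹ᵁ U).ι (defect a p q r) = 1 := by
    intro z
    let s := A.hom z
    have hfix : A.left.fromSpecResidueField (e s) ≫ A.hom ≫ e = A.left.fromSpecResidueField (e s) := by
      rw [← cancel_epi (Spec.map (e.residueFieldMap s)), Scheme.Hom.SpecMap_residueFieldMap_fromSpecResidueField_assoc,
        Scheme.Hom.SpecMap_residueFieldMap_fromSpecResidueField, reassoc_of% he]
    have h₃ : PicM.pull (π.fiberι (e s)) (defect a p q r) = 1 := hres _ (Or.inr (Or.inr (by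
      show π.fiberι (e s) ≫ π = (π.fiberι (e s) ≫ π ≫ A.hom) ≫ e
      rw [Category.assoc, Category.assoc, ← Category.assoc (π.fiberι (e s)) π, π.fiber_fac, Category.assoc, hfix])))
    obtain ⟨U, hU, hsU, hUa⟩ := FlatMor12.Cube.exists_clopen_trivial_triple A.hom A.hom A.hom e he e he
      (defect a p q r) ax hax1 (pullback.lift_snd _ _ _) ay hay1 hay2 m₁ hm₁f hm₁s m₂ hm₂f hm₂s h₁ h₂ (e s) h₃
    refine ⟨U, ?_, hUa⟩
    refine (A.hom.isConnected_preimage_singleton s).isPreconnected.subset_isClopen ⟨hU, U.isOpen⟩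
      ⟨e s, ?_, hsU⟩ (show z ∈ A.hom ⁻¹' {s} from rfl)
    show A.hom (e s) = s
    rw [← Scheme.Hom.comp_apply, he]; rfl
  choose U hzU hUa using hloc
  have hbij : ∀ O : A.left.Opens, Function.Bijective (π.app O) := fun O =>
    haveI := FlatMor12.Cube.isIso_app_of_geometricallyIntegral f2 A.left A.hom O
    ConcreteCategory.bijective_of_isIso _
  obtain ⟨L, hL, hLe⟩ := PicM.exists_eq_of (defect a p q r)
  obtain ⟨hN, hc⟩ := exists_descend_of_flat_cover π hbij hL (fun z => (U z).toScheme) (fun z => (U z).ι)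
    (fun y => ⟨y, by rw [Scheme.Opens.range_ι]; exact hzU y⟩)
    (fun Z hZ => by
      have hZe : Z = ⋃ z, (U z).ι '' ((U z).ι ⁻¹' Z) := by
        refine Set.ext fun y => ⟨fun hy => ?_, fun hy => ?_⟩
        · exact Set.mem_iUnion.2 ⟨y, ⟨y, hzU y⟩, hy, rfl⟩
        · obtain ⟨j, x, hx, rfl⟩ := Set.mem_iUnion.1 hy
          exact hx
      rw [hZe]
      exact isOpen_iUnion fun z => (U z).ι.isOpenEmbedding.isOpenMap _ (hZ z))
    (fun _ => 1) (fun z => by
      rw [map_one, ← pullbackRestrictIsoRestrict_hom_ι π (U z), ← PicM.pull_pull, ← hLe, hUa, map_one])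
  have hb : defect a p q r = PicM.pull π (PicM.of hN) := by
    rw [hLe, PicM.pull_of, PicM.of_eq_iff]
    exact ⟨(asIso ((Scheme.Modules.pullbackPushforwardAdjunction π).counit.app L)).symm⟩
  let σ : A.left ⟶ W.left := pullback.lift (A.hom ≫ e ≫ ax) (𝟙 _) (by
    simp only [f2, Category.assoc, reassoc_of% hax1, reassoc_of% he, he, Category.comp_id, Category.id_comp])
  have hσ : σ ≫ π = 𝟙 _ := pullback.lift_snd _ _ _
  have hN1 : PicM.of hN = 1 := by
    have h := hres σ (Or.inl (by
      show σ ≫ pullback.fst f2 A.hom ≫ pullback.fst A.hom A.hom = (σ ≫ π ≫ A.hom) ≫ e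
      rw [← Category.assoc σ, show σ ≫ pullback.fst f2 A.hom = A.hom ≫ e ≫ ax from pullback.lift_fst _ _ _,
        reassoc_of% hσ]
      simp only [Category.assoc, hax1, reassoc_of% he]))
    rw [hb, PicM.pull_pull, hσ, PicM.pull_id] at h
    exact h
  have huniv : defect a p q r = 1 := by rw [hb, hN1, map_one]
  let t₀ : V.left ⟶ W.left := pullback.lift (pullback.lift f₀.left g₀.left ((Over.w f₀).trans (Over.w g₀).symm)) h₀.left (by
    simp only [f2, pullback.lift_fst_assoc]
    exact (Over.w f₀).trans (Over.w h₀).symm)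
  let t : V ⟶ W := Over.homMk t₀ (by
    show t₀ ≫ π ≫ A.hom = V.hom
    rw [← Category.assoc, show t₀ ≫ π = h₀.left from pullback.lift_snd _ _ _, Over.w h₀])
  have h : defect a (t ≫ p) (t ≫ q) (t ≫ r) = 1 :=
    (pb_defect a t p q r).symm.trans ((congrArg (pb t) huniv).trans (map_one _))
  have e₁ : t ≫ p = f₀ := Over.OverMorphism.ext (by
    show t₀ ≫ pullback.fst f2 A.hom ≫ pullback.fst A.hom A.hom = _
    rw [← Category.assoc, show t₀ ≫ pullback.fst f2 A.hom = _ from pullback.lift_fst _ _ _, pullback.lift_fst])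
  have e₂ : t ≫ q = g₀ := Over.OverMorphism.ext (by
    show t₀ ≫ pullback.fst f2 A.hom ≫ pullback.snd A.hom A.hom = _
    rw [← Category.assoc, show t₀ ≫ pullback.fst f2 A.hom = _ from pullback.lift_fst _ _ _, pullback.lift_snd])
  have e₃ : t ≫ r = h₀ := Over.OverMorphism.ext (pullback.lift_snd _ _ _)
  rwa [e₁, e₂, e₃] at h

/-- The cubical relation over `S`. -/
theorem cube_relation (a : PicM A.left) {V : Over S} (f g h : V ⟶ A) :
    pb (f * g * h) a * pb f a * pb g a * pb h a = pb (f * g) a * pb (f * h) a * pb (g * h) a * pb (1 : V ⟶ A) a :=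
  div_eq_one.1 (defect_eq_one a f g h)

/-- A function on the integers with constant second difference. -/
theorem eq_of_secondDiff {G : Type*} [AddCommGroup G] (φ : ℤ → G) (h0 : φ 0 = 0)
    (h : ∀ n : ℤ, φ (n + 2) + φ n = φ (n + 1) + φ (n + 1) + (φ 1 + φ (-1))) (n : ℤ) :
    φ n = ((n ^ 2 + n) / 2) • φ 1 + ((n ^ 2 - n) / 2) • φ (-1) := by
  have hA : ∀ m : ℤ, (m + 1) ^ 2 + (m + 1) = m ^ 2 + m + 2 * (m + 1) := fun m => by ring
  have hB : ∀ m : ℤ, (m + 1) ^ 2 - (m + 1) = m ^ 2 - m + 2 * m := fun m => by ring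
  have hd : ∀ m : ℤ, φ (m + 1) - φ m = (m + 1) • φ 1 + m • φ (-1) := fun m => by
    induction m using Int.induction_on with
    | zero => simp [h0]
    | succ i hi =>
      have e := h i
      rw [show (i : ℤ) + 1 + 1 = i + 2 by ring, ← sub_eq_zero]
      rw [← sub_eq_zero] at e hi
      have : φ (i + 2) - φ (i + 1) - (((i : ℤ) + 2) • φ 1 + ((i : ℤ) + 1) • φ (-1)) =
          (φ (i + 2) + φ i - (φ (i + 1) + φ (i + 1) + (φ 1 + φ (-1)))) +
          (φ (i + 1) - φ i - (((i : ℤ) + 1) • φ 1 + (i : ℤ) • φ (-1))) := by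
        simp only [add_smul, one_smul, show ((2 : ℤ)) = 1 + 1 from rfl]
        abel
      rw [this, e, hi, add_zero]
    | pred i hi =>
      have e := h (-(i : ℤ) - 1)
      rw [show -(i : ℤ) - 1 + 2 = -i + 1 by ring, show -(i : ℤ) - 1 + 1 = -i by ring] at e
      rw [show -(i : ℤ) - 1 + 1 = -i by ring, ← sub_eq_zero]
      rw [← sub_eq_zero] at e hi
      have : φ (-i) - φ (-i - 1) - ((-(i : ℤ)) • φ 1 + (-(i : ℤ) - 1) • φ (-1)) =
          (φ (-i + 1) - φ (-i) - ((-(i : ℤ) + 1) • φ 1 + (-(i : ℤ)) • φ (-1))) -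
          (φ (-i + 1) + φ (-i - 1) - (φ (-i) + φ (-i) + (φ 1 + φ (-1)))) := by
        simp only [add_smul, sub_smul, one_smul]
        abel
      rw [this, e, hi, sub_zero]
  induction n using Int.induction_on with
  | zero => simp [h0]
  | succ i hi =>
    have e := hd i
    rw [hA, hB, Int.add_mul_ediv_left _ _ two_ne_zero, Int.add_mul_ediv_left _ _ two_ne_zero]
    rw [sub_eq_iff_eq_add] at e
    rw [e, hi]
    simp only [add_smul, one_smul]
    abel
  | pred i hi =>
    have e := hd (-(i : ℤ) - 1)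
    have a1 := hA (-(i : ℤ) - 1)
    have b1 := hB (-(i : ℤ) - 1)
    rw [show -(i : ℤ) - 1 + 1 = -i by ring] at e a1 b1
    rw [hi, a1, b1, Int.add_mul_ediv_left _ _ two_ne_zero, Int.add_mul_ediv_left _ _ two_ne_zero,
      ← sub_eq_zero] at e
    rw [← sub_eq_zero, ← neg_eq_zero, ← e]
    simp only [add_smul, sub_smul, neg_smul, one_smul]
    abel

/-- Pullback along a power of a morphism. -/
theorem pb_zpow (a : PicM A.left) {V : Over S} (f : V ⟶ A) (n : ℤ) :
    pb (f ^ n) a / pb (1 : V ⟶ A) a = (pb f a / pb (1 : V ⟶ A) a) ^ ((n ^ 2 + n) / 2) *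
      (pb f⁻¹ a / pb (1 : V ⟶ A) a) ^ ((n ^ 2 - n) / 2) := by
  let φ : ℤ → Additive (PicM V.left) := fun m => Additive.ofMul (pb (f ^ m) a / pb (1 : V ⟶ A) a)
  have h := eq_of_secondDiff φ (by simp [φ]) (fun m => ?_) n
  · simpa [φ] using congrArg Additive.toMul h
  · have h1 := congrArg Additive.ofMul (cube_relation a (f ^ (m + 1)) f f⁻¹)
    have e1 : f ^ (m + 1) * f * f⁻¹ = f ^ (m + 1) := mul_inv_cancel_right _ _
    have e2 : f ^ (m + 1) * f = f ^ (m + 2) := by
      rw [show m + 2 = m + 1 + 1 by ring]; exact (zpow_add_one f (m + 1)).symm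
    have e3 : f ^ (m + 1) * f⁻¹ = f ^ m := by rw [zpow_add_one, mul_inv_cancel_right]
    rw [e1, e2, e3, mul_inv_cancel] at h1
    simp only [ofMul_mul] at h1
    simp only [φ, zpow_one, zpow_neg, ofMul_div]
    rw [← sub_eq_zero] at h1 ⊢
    rw [← neg_eq_zero, ← h1]
    abel

omit [IsProper A.hom] [Flat A.hom] [LocallyOfFinitePresentation A.hom] [GeometricallyReduced A.hom]
  [GeometricallyConnected A.hom] in
theorem pb_one_eq (V : Over S) (a : PicM A.left) :
    pb (1 : V ⟶ A) a = PicM.pull V.hom (PicM.pull η[A].left a) := by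
  rw [pb, one_left, ← PicM.pull_pull]

/-- The two coefficients of `pb_zpow`. -/
theorem coeffs (n : ℤ) : 0 ≤ (n ^ 2 + n) / 2 ∧ 0 ≤ (n ^ 2 - n) / 2 ∧
    (n ^ 2 + n) / 2 + (n ^ 2 - n) / 2 = n ^ 2 := by
  obtain ⟨c, hc⟩ : (2 : ℤ) ∣ n ^ 2 + n := by
    rw [show n ^ 2 + n = n * (n + 1) by ring]
    exact (Int.even_mul_succ_self n).two_dvd
  have h1 : n ^ 2 - n = 2 * (n ^ 2 - c) := by linarith
  have h2 : 0 ≤ n ^ 2 + n := by
    rcases le_or_gt 0 n with h | h
    · positivity
    · nlinarith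
  have h3 : 0 ≤ n ^ 2 - n := by
    rcases le_or_gt n 0 with h | h
    · nlinarith
    · nlinarith
  refine ⟨Int.ediv_nonneg h2 two_pos.le, Int.ediv_nonneg h3 two_pos.le, ?_⟩
  rw [hc, h1, Int.mul_ediv_cancel_left _ two_ne_zero, Int.mul_ediv_cancel_left _ two_ne_zero]
  ring

/-- `[n]^* a` with the rigidification on the other side. -/
theorem pb_zpow' (a : PicM A.left) {V : Over S} (f : V ⟶ A) (n : ℤ) :
    pb (f ^ n) a * pb (1 : V ⟶ A) a ^ n ^ 2 = pb f a ^ ((n ^ 2 + n) / 2).toNat *
      pb f⁻¹ a ^ ((n ^ 2 - n) / 2).toNat * pb (1 : V ⟶ A) a := by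
  obtain ⟨hT, hU, hTU⟩ := coeffs n
  rw [← zpow_natCast (pb f a), ← zpow_natCast (pb f⁻¹ a), Int.toNat_of_nonneg hT, Int.toNat_of_nonneg hU]
  have h := congrArg Additive.ofMul (pb_zpow a f n)
  refine Additive.ofMul.injective ?_
  simp only [ofMul_mul, ofMul_div, ofMul_zpow] at h ⊢
  rw [sub_eq_iff_eq_add] at h
  have hsm : n ^ 2 • Additive.ofMul (pb (1 : V ⟶ A) a) = ((n ^ 2 + n) / 2) • Additive.ofMul (pb (1 : V ⟶ A) a) +
      ((n ^ 2 - n) / 2) • Additive.ofMul (pb (1 : V ⟶ A) a) := by rw [← add_smul, hTU]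
  rw [h, hsm]
  generalize (n ^ 2 + n) / 2 = T
  generalize (n ^ 2 - n) / 2 = U
  rw [smul_sub, smul_sub]
  abel

end Groth.Agent.CubeS27
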